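import Groth.Agent.ExtConst67.Extend
import Groth.Prelude.Def_Red
import Groth.Agent.S9812
import Groth.Agent.GUPoly.Basic

/-!
# Base change of constant group schemes; fields are geometrically unibranch
-/

set_option autoImplicit false
universe u

open CategoryTheory CategoryTheory.Limits AlgebraicGeometry MonoidalCategory CartesianMonoidalCategory MonObj GrpObj

namespace Groth.Agent.ExtConst67

variable {S S' : Scheme.{u}} (f : S' ⟶ S) (Z : Type u)

/-- morphisms into a constant scheme are determined by their index -/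
theorem ext_idx {Z : Type u} {G : Over S} (eG : G ≅ TwC.const S Z) {T : Over S} {a b : T ⟶ G}
    (h : ∀ t, idx eG a t = idx eG b t) : a = b := by
  apply Over.OverMorphism.ext
  let U : Z → T.left.Opens := fun m => ⟨idx eG a ⁻¹' {m}, isLocallyConstant_idx eG a {m}⟩
  have hU : ⨆ m, U m = ⊤ := top_le_iff.1 fun t _ => TopologicalSpace.Opens.mem_iSup.2 ⟨idx eG a t, rfl⟩
  refine Scheme.Cover.hom_ext (T.left.openCoverOfIsOpenCover U hU) _ _ fun m => ?_
  let i : Over.mk ((U m).ι ≫ T.hom) ⟶ T := Over.homMk (U m).ι rfl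
  have h1 : i ≫ a = i ≫ b := by
    rw [eq_cpt eG (i ≫ a) m fun w => by rw [idx_comp]; exact w.2,
      eq_cpt eG (i ≫ b) m fun w => by rw [idx_comp, ← h]; exact w.2]
  exact congrArg CommaMorphism.left h1

/-- the constant scheme to the base change of the constant scheme -/
noncomputable def constTo : TwC.const S' Z ⟶ Red.bc f (TwC.const S Z) :=
  Over.homMk (pullback.lift (Sigma.desc fun m : Z => f ≫ Sigma.ι (fun _ : Z => S) m)
    (TwC.const S' Z).hom (Sigma.hom_ext _ _ fun m => by simp)) (pullback.lift_snd _ _ _)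

theorem isIso_constTo : IsIso (constTo f Z) := by
  let Y := Red.bc f (TwC.const S Z)
  let T : Over S := (Over.map f).obj Y
  let q : T ⟶ TwC.const S Z := Over.homMk (pullback.fst _ _) pullback.condition
  obtain ⟨w, hw⟩ := exists_of_idx (Iso.refl (TwC.const S' Z)) (T := Y) (idx (Iso.refl (TwC.const S Z)) q)
    (isLocallyConstant_idx _ q)
  have hfst : ∀ {W : Over S'} (a : W ⟶ TwC.const S' Z) (t : W.left),
      ((sigmaMk (fun _ : Z => S)).symm
        ((Sigma.desc fun m : Z => f ≫ Sigma.ι (fun _ : Z => S) m).base (a.left.base t))).1 =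
      idx (Iso.refl _) a t := fun {W} a t => by
    unfold idx
    simp only [Iso.refl_hom, Category.comp_id]
    obtain ⟨⟨m, x⟩, hp⟩ := (sigmaMk (fun _ : Z => S')).surjective (a.left.base t)
    rw [← hp, Homeomorph.symm_apply_apply, sigmaMk_mk, ← Scheme.Hom.comp_apply, Sigma.ι_desc,
      Scheme.Hom.comp_apply, ← sigmaMk_mk (fun _ : Z => S) m, Homeomorph.symm_apply_apply]
  refine ⟨w, ext_idx (Iso.refl _) fun t => ?_, ?_⟩
  · rw [idx_comp, hw, ← hfst (𝟙 _) t]
    show idx _ q ((constTo f Z).left.base t) = _
    unfold idx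
    simp only [Iso.refl_hom, Category.comp_id]
    show ((sigmaMk (fun _ : Z => S)).symm (((constTo f Z).left ≫ pullback.fst _ _).base t)).1 = _
    rw [show (constTo f Z).left ≫ pullback.fst (TwC.const S Z).hom f =
      Sigma.desc (fun m : Z => f ≫ Sigma.ι (fun _ : Z => S) m) from pullback.lift_fst _ _ _]
    rfl
  · apply Over.OverMorphism.ext
    apply pullback.hom_ext
    · let a : T ⟶ TwC.const S Z := Over.homMk
        (w.left ≫ Sigma.desc fun m : Z => f ≫ Sigma.ι (fun _ : Z => S) m) (by
          show (w.left ≫ _) ≫ Sigma.desc (fun _ : Z => 𝟙 S) = Y.hom ≫ f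
          rw [← Over.w w, Category.assoc, Category.assoc]
          congr 1
          exact Sigma.hom_ext _ _ fun m => by simp)
      have h : a = q := ext_idx (Iso.refl _) fun t => by
        rw [← hw t, ← hfst w t]
        unfold idx
        simp only [Iso.refl_hom, Category.comp_id]
        rfl
      have h2 := congrArg CommaMorphism.left h
      simp only [Over.comp_left, Category.assoc, Over.id_left, Category.id_comp]
      rw [show (constTo f Z).left ≫ pullback.fst (TwC.const S Z).hom f =
        Sigma.desc (fun m : Z => f ≫ Sigma.ι (fun _ : Z => S) m) from pullback.lift_fst _ _ _]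
      exact h2
    · simp only [Over.comp_left, Category.assoc, Over.id_left, Category.id_comp]
      rw [show (constTo f Z).left ≫ pullback.snd (TwC.const S Z).hom f = (TwC.const S' Z).hom from
        pullback.lift_snd _ _ _]
      exact Over.w w

/-- base change of a constant scheme -/
noncomputable def constBC : Red.bc f (TwC.const S Z) ≅ TwC.const S' Z :=
  haveI := isIso_constTo f Z
  (asIso (constTo f Z)).symm

theorem pt_constTo (m : Z) : TwC.pt S' Z m ≫ constTo f Z =
    Functor.LaxMonoidal.ε (Over.pullback f) ≫ (Over.pullback f).map (TwC.pt S Z m) := by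
  have e : (Functor.LaxMonoidal.ε (Over.pullback f)).left ≫ pullback.snd (𝟙 S) f = 𝟙 S' :=
    Over.w (Functor.LaxMonoidal.ε (Over.pullback f))
  apply Over.OverMorphism.ext
  apply pullback.hom_ext
  · show (Sigma.ι (fun _ : Z => S') m ≫ pullback.lift _ _ _) ≫ pullback.fst _ _ =
      ((Functor.LaxMonoidal.ε (Over.pullback f)).left ≫ pullback.lift (pullback.fst (𝟙 S) f ≫
        Sigma.ι (fun _ : Z => S) m) _ _) ≫ pullback.fst _ _
    rw [Category.assoc, Category.assoc]
    erw [pullback.lift_fst, pullback.lift_fst]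
    rw [Sigma.ι_desc]
    have h := pullback.condition (f := 𝟙 S) (g := f)
    rw [Category.comp_id] at h
    rw [h]
    simp only [Category.assoc]
    erw [reassoc_of% e]
    exact (Category.id_comp _).symm
  · show (Sigma.ι (fun _ : Z => S') m ≫ pullback.lift _ _ _) ≫ pullback.snd _ _ =
      ((Functor.LaxMonoidal.ε (Over.pullback f)).left ≫ pullback.lift _ (pullback.snd (𝟙 S) f) _) ≫
        pullback.snd _ _
    rw [Category.assoc, Category.assoc]
    erw [pullback.lift_snd, pullback.lift_snd]
    exact (Sigma.ι_desc _ _).trans e.symm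

theorem isConstGrp_bc {Z : Type u} [Group Z] {G : Over S} [GrpObj G] {eG : G ≅ TwC.const S Z}
    (hG : TwC.IsConstGrp Z G eG) :
    TwC.IsConstGrp Z (Red.bc f G) ((Over.pullback f).mapIso eG ≪≫ constBC f Z) := by
  intro m n
  have key : ∀ k : Z, TwC.pt S' Z k ≫ ((Over.pullback f).mapIso eG ≪≫ constBC f Z).inv =
      Functor.LaxMonoidal.ε (Over.pullback f) ≫ (Over.pullback f).map (TwC.pt S Z k ≫ eG.inv) := fun k => by
    show TwC.pt S' Z k ≫ constTo f Z ≫ (Over.pullback f).map eG.inv = _
    rw [← Category.assoc, pt_constTo, Category.assoc, Functor.map_comp]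
  rw [key, key, key, ← hG m n, Functor.map_mul, MonObj.comp_mul]

theorem isGeomUnibranch_field {k : Type u} [Field k] (q : Spec (CommRingCat.of k)) :
    CAlg2.IsGeomUnibranch ((Spec (CommRingCat.of k)).presheaf.stalk q) := by
  let p : PrimeSpectrum k := q
  haveI : IsIntegrallyClosed (Localization.AtPrime p.asIdeal) :=
    isIntegrallyClosed_of_isLocalization _ p.asIdeal.primeCompl p.asIdeal.primeCompl_le_nonZeroDivisors
  refine GUPoly.isGeomUnibranch_congr ?_ (Groth.Agent.S9812.result (Localization.AtPrime p.asIdeal))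
  exact (IsLocalization.algEquiv p.asIdeal.primeCompl (Localization.AtPrime p.asIdeal)
    ((Spec.structureSheaf k).presheaf.stalk p)).toRingEquiv

end Groth.Agent.ExtConst67
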