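import Groth.Prelude
import Mathlib.AlgebraicGeometry.Limits
import Mathlib.AlgebraicGeometry.Morphisms.Flat

/-!
# Constant group schemes and extensions by them

* `idx eG a t`: the index of the component of `Z_S` hit by `a : T ⟶ G` at the point `t`; a locally constant homomorphism;
* for an fppf exact sequence `1 → Z_S → E → P → 1` and `f : E ⟶ G` invariant under translation by `Z_S`,
  the index of `f` factors through the points of `P`, takes finitely many values if `P` is quasi-compact and is
  constant if `P` is connected.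
-/

set_option autoImplicit false
universe u

open CategoryTheory CategoryTheory.Limits AlgebraicGeometry MonoidalCategory CartesianMonoidalCategory MonObj GrpObj

namespace Groth.Agent.ExtConst67

variable {S : Scheme.{u}} {Z : Type u} {G : Over S} (eG : G ≅ TwC.const S Z)

/-- index of the component of the constant scheme hit by `a` at `t` -/
noncomputable def idx {T : Over S} (a : T ⟶ G) (t : T.left) : Z :=
  ((sigmaMk (fun _ : Z => S)).symm ((a ≫ eG.hom).left.base t)).1

theorem idx_comp {T T' : Over S} (h : T' ⟶ T) (a : T ⟶ G) (t : T'.left) :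
    idx eG (h ≫ a) t = idx eG a (h.left.base t) := by
  unfold idx
  rfl

theorem isLocallyConstant_idx {T : Over S} (a : T ⟶ G) : IsLocallyConstant (idx eG a) := by
  have h1 : IsLocallyConstant (fun p : Σ _ : Z, S => p.1) := by
    rw [IsLocallyConstant.iff_exists_open]
    rintro ⟨m, x⟩
    refine ⟨Set.range (Sigma.mk m), isOpen_range_sigmaMk, ⟨x, rfl⟩, ?_⟩
    rintro _ ⟨y, rfl⟩
    rfl
  exact h1.comp_continuous ((sigmaMk (fun _ : Z => S)).symm.continuous.comp (a ≫ eG.hom).left.continuous)

/-- the point of index `m` -/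
noncomputable def cpt (T : Over S) (m : Z) : T ⟶ G := toUnit T ≫ TwC.pt S Z m ≫ eG.inv

theorem idx_cpt {T : Over S} (m : Z) (t : T.left) : idx eG (cpt eG T m) t = m := by
  unfold idx cpt
  have h1 : (toUnit T ≫ TwC.pt S Z m ≫ eG.inv) ≫ eG.hom = toUnit T ≫ TwC.pt S Z m := by
    simp
  rw [h1]
  show ((sigmaMk (fun _ : Z => S)).symm ((Sigma.ι (fun _ : Z => S) m).base ((toUnit T).left.base t))).1 = m
  rw [← sigmaMk_mk (fun _ : Z => S) m, Homeomorph.symm_apply_apply]

/-- a morphism of constant index is the constant -/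
theorem eq_cpt {T : Over S} (a : T ⟶ G) (m : Z) (h : ∀ t, idx eG a t = m) : a = cpt eG T m := by
  rw [← cancel_mono eG.hom]
  simp only [cpt, Category.assoc, Iso.inv_hom_id, Category.comp_id]
  have hr : Set.range (a ≫ eG.hom).left.base ⊆ Set.range (Sigma.ι (fun _ : Z => S) m).base := by
    rintro _ ⟨t, rfl⟩
    have ht := h t
    unfold idx at ht
    generalize hp : (sigmaMk (fun _ : Z => S)).symm ((a ≫ eG.hom).left.base t) = p at ht
    obtain ⟨m', x⟩ := p
    obtain rfl : m' = m := ht
    refine ⟨x, ?_⟩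
    rw [← sigmaMk_mk (fun _ : Z => S) m' x, ← hp, Homeomorph.apply_symm_apply]
  let a' : T.left ⟶ S := IsOpenImmersion.lift (Sigma.ι (fun _ : Z => S) m) (a ≫ eG.hom).left hr
  have ha' : a' ≫ Sigma.ι (fun _ : Z => S) m = (a ≫ eG.hom).left := IsOpenImmersion.lift_fac _ _ _
  have ha'' : a' = T.hom := by
    have := congrArg (fun g => g ≫ Sigma.desc (fun _ : Z => 𝟙 S)) ha'
    simp only [Category.assoc, Sigma.ι_desc, Category.comp_id] at this
    exact this.trans (Over.w (a ≫ eG.hom))
  apply Over.OverMorphism.ext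
  rw [← ha', ha'']
  rfl

theorem eq_of_idx {T : Over S} [Subsingleton T.left] (a : T ⟶ G) (t : T.left) : a = cpt eG T (idx eG a t) :=
  eq_cpt eG a _ fun t' => by rw [Subsingleton.elim t' t]

variable [Group Z] [GrpObj G] {eG}

theorem cpt_mul (hG : TwC.IsConstGrp Z G eG) (T : Over S) (m n : Z) :
    cpt eG T m * cpt eG T n = cpt eG T (m * n) := by
  unfold cpt
  rw [← hG m n, MonObj.comp_mul]

theorem idx_mul (hG : TwC.IsConstGrp Z G eG) {T : Over S} (a b : T ⟶ G) (t : T.left) :
    idx eG (a * b) t = idx eG a t * idx eG b t := by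
  let T' : Over S := Over.mk (T.left.fromSpecResidueField t ≫ T.hom)
  let h : T' ⟶ T := Over.homMk (T.left.fromSpecResidueField t) rfl
  haveI : Subsingleton T'.left := inferInstanceAs (Subsingleton (PrimeSpectrum (T.left.residueField t)))
  obtain ⟨t'⟩ : Nonempty T'.left := inferInstanceAs (Nonempty (PrimeSpectrum (T.left.residueField t)))
  have ht : h.left.base t' = t := T.left.fromSpecResidueField_apply t t'
  rw [← ht, ← idx_comp, ← idx_comp eG h a, ← idx_comp eG h b, MonObj.comp_mul]
  conv_lhs => rw [eq_of_idx eG (h ≫ a) t', eq_of_idx eG (h ≫ b) t', cpt_mul hG, idx_cpt]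

theorem idx_one (hG : TwC.IsConstGrp Z G eG) {T : Over S} (t : T.left) : idx eG (1 : T ⟶ G) t = 1 := by
  have h := idx_mul hG (1 : T ⟶ G) 1 t
  rw [_root_.mul_one] at h
  exact (left_eq_mul.1 h)

theorem idx_pow (hG : TwC.IsConstGrp Z G eG) {T : Over S} (a : T ⟶ G) (n : ℕ) (t : T.left) :
    idx eG (a ^ n) t = idx eG a t ^ n := by
  induction n with
  | zero => rw [pow_zero, pow_zero, idx_one hG]
  | succ n ih => rw [_root_.pow_succ, _root_.pow_succ, idx_mul hG, ih]

theorem eq_one_of_idx (hG : TwC.IsConstGrp Z G eG) {T : Over S} (a : T ⟶ G) (h : ∀ t, idx eG a t = 1) :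
    a = 1 :=
  (eq_cpt eG a 1 h).trans (eq_cpt eG (1 : T ⟶ G) 1 fun t => idx_one hG t).symm

variable {E P : Over S} [GrpObj E] [GrpObj P] {u : G ⟶ E} {v : E ⟶ P} {K : Precoverage Scheme.{u}}

omit [Group Z] in
/-- two points of `E` with the same image differ by a unique point of `G` -/
theorem exists_translate (hex : NonAbH1.IsExactSeq K u v) {T : Over S} (a b : T ⟶ E) (h : a ≫ v = b ≫ v) :
    ∃! g : T ⟶ G, a * (g ≫ u) = b := by
  obtain ⟨-, -, -, hpb, -⟩ := hex
  have hl := hpb.lift a b h
  have key : ∀ g : T ⟶ G, lift a g ≫ ((E ◁ u) ≫ μ[E]) = a * (g ≫ u) := fun g => by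
    rw [lift_whiskerLeft_assoc]
    rfl
  refine ⟨hpb.lift a b h ≫ snd E G, ?_, ?_⟩
  · show a * ((hpb.lift a b h ≫ snd E G) ≫ u) = b
    rw [← key]
    have h2 : lift a (hpb.lift a b h ≫ snd E G) = hpb.lift a b h := by
      apply CartesianMonoidalCategory.hom_ext
      · rw [lift_fst, hpb.lift_fst]
      · rw [lift_snd]
    rw [h2, hpb.lift_snd]
  · intro g hg
    have h2 : lift a g = hpb.lift a b h := by
      apply hpb.hom_ext
      · rw [lift_fst, hpb.lift_fst]
      · rw [key, hg, hpb.lift_snd]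
    rw [← h2, lift_snd]

/-- invariance under translation by `G` -/
def IsInvariant (u : G ⟶ E) (f : E ⟶ G) : Prop :=
  ∀ ⦃T : Over S⦄ (a : T ⟶ E) (g : T ⟶ G), (a * (g ≫ u)) ≫ f = a ≫ f

omit [Group Z] in
/-- the index of an invariant morphism factors through the points of `P` -/
theorem idx_eq_of_invariant (hex : NonAbH1.IsExactSeq K u v) {f : E ⟶ G} (hf : IsInvariant u f)
    (e e' : E.left) (h : v.left.base e = v.left.base e') : idx eG f e = idx eG f e' := by
  obtain ⟨z, hz, hz'⟩ := Scheme.Pullback.exists_preimage_pullback (f := v.left) (g := v.left) e e' h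
  let T : Over S := Over.mk (pullback.fst v.left v.left ≫ E.hom)
  let a : T ⟶ E := Over.homMk (pullback.fst v.left v.left) rfl
  let b : T ⟶ E := Over.homMk (pullback.snd v.left v.left) (by
    show pullback.snd v.left v.left ≫ E.hom = pullback.fst v.left v.left ≫ E.hom
    rw [← Over.w v, ← Category.assoc, ← pullback.condition, Category.assoc])
  have hab : a ≫ v = b ≫ v := Over.OverMorphism.ext pullback.condition
  obtain ⟨g, hg, -⟩ := exists_translate hex a b hab
  have h1 : a ≫ f = b ≫ f := by rw [← hg]; exact (hf a g).symm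
  rw [← hz, ← hz']
  have h2 := congrArg (fun q => idx eG q z) h1
  exact (idx_comp eG a f z).symm.trans (h2.trans (idx_comp eG b f z))

omit [Group Z] in
/-- fppf locally on `P`, `v` has sections -/
theorem exists_local_section (hex : NonAbH1.IsExactSeq Scheme.fppfPrecoverage u v) (p : P.left) :
    ∃ (W : Scheme.{u}) (q : W ⟶ P.left) (s : W ⟶ E.left), Flat q ∧ LocallyOfFinitePresentation q ∧
      s ≫ v.left = q ∧ p ∈ Set.range q.base := by
  obtain ⟨-, -, -, -, R, hR, hsec⟩ := hex
  obtain ⟨J, X, q, rfl⟩ := R.exists_eq_ofArrows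
  obtain ⟨hjs, hprop⟩ := (Scheme.ofArrows_mem_precoverage_iff
    (P := @Flat ⊓ @LocallyOfFinitePresentation)).1 hR
  obtain ⟨i, hp⟩ := hjs p
  obtain ⟨s, hs⟩ := hsec (q i) ⟨i⟩
  exact ⟨X i, q i, s, (hprop i).1, (hprop i).2, hs, hp⟩

omit [Group Z] in
theorem surjective_of_exact (hex : NonAbH1.IsExactSeq Scheme.fppfPrecoverage u v) :
    Function.Surjective v.left.base := fun p => by
  obtain ⟨W, q, s, -, -, hs, w, rfl⟩ := exists_local_section hex p
  exact ⟨s.base w, by rw [← Scheme.Hom.comp_apply, hs]⟩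

omit [Group Z] in
/-- near every point of `P` an invariant index takes finitely many values -/
theorem exists_nhd_finite (hex : NonAbH1.IsExactSeq Scheme.fppfPrecoverage u v) {f : E ⟶ G}
    (hf : IsInvariant u f) (p : P.left) : ∃ U : Set P.left, IsOpen U ∧ p ∈ U ∧
      (idx eG f '' (v.left.base ⁻¹' U)).Finite := by
  obtain ⟨W, q, s, hfl, hlfp, hs, w, hw⟩ := exists_local_section hex p
  obtain ⟨V, hV, hwV, -⟩ := exists_isAffineOpen_mem_and_subset (X := W) (x := w) (U := ⊤) trivial
  refine ⟨q.base '' (V : Set W), q.isOpenMap _ V.isOpen, ⟨w, hwV, hw⟩, ?_⟩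
  haveI : CompactSpace (V : Set W) := isCompact_iff_compactSpace.1 hV.isCompact
  have hfin : ((idx eG f ∘ s.base) '' (V : Set W)).Finite := by
    rw [Set.image_eq_range]
    exact ((isLocallyConstant_idx eG f).comp_continuous
      (s.continuous.comp continuous_subtype_val)).range_finite
  refine hfin.subset ?_
  rintro _ ⟨e, ⟨w', hw', he⟩, rfl⟩
  refine ⟨w', hw', idx_eq_of_invariant hex hf _ _ ?_⟩
  rw [← Scheme.Hom.comp_apply, hs, he]

omit [Group Z] in
theorem finite_range_of_compact (hex : NonAbH1.IsExactSeq Scheme.fppfPrecoverage u v) [CompactSpace P.left]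
    {f : E ⟶ G} (hf : IsInvariant u f) : (Set.range (idx eG f)).Finite := by
  choose U hU hpU hfin using exists_nhd_finite (eG := eG) hex hf
  obtain ⟨t, ht⟩ := isCompact_univ.elim_finite_subcover U hU fun p _ => Set.mem_iUnion.2 ⟨p, hpU p⟩
  refine (t.finite_toSet.biUnion fun p _ => hfin p).subset ?_
  rintro _ ⟨e, rfl⟩
  obtain ⟨p, hp, hep⟩ := Set.mem_iUnion₂.1 (ht (Set.mem_univ (v.left.base e)))
  exact Set.mem_biUnion hp ⟨e, hep, rfl⟩

end Groth.Agent.ExtConst67
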