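import Groth.Agent.ExtConst67.Basic
import Groth.Agent.GITLib.FpqcLocal
import Groth.Agent.TwCLib.Etale
import Groth.Agent.FpqcDesc.Props
import Mathlib.AlgebraicGeometry.Morphisms.LocalFlatDescent

/-!
# The projection of an extension by a constant group is étale and separated
-/

set_option autoImplicit false
universe u

open CategoryTheory CategoryTheory.Limits AlgebraicGeometry MonoidalCategory CartesianMonoidalCategory MonObj GrpObj

namespace Groth.Agent.ExtConst67

variable {S : Scheme.{u}} {Z : Type u} {G E P : Over S} [GrpObj E] [GrpObj G] [GrpObj P]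
  {u : G ⟶ E} {v : E ⟶ P}

theorem etale_hom (eG : G ≅ TwC.const S Z) : Etale G.hom := by
  rw [← Over.w eG.hom]
  haveI : Etale (TwC.const S Z).hom := TwCLib.etale_constHom S Z
  haveI : IsIso eG.hom.left := inferInstanceAs (IsIso ((Over.forget S).map eG.hom))
  infer_instance

theorem isSeparated_hom (eG : G ≅ TwC.const S Z) : IsSeparated G.hom := by
  rw [← Over.w eG.hom]
  haveI : IsSeparated (TwC.const S Z).hom := TwCLib.isSeparated_constHom S Z
  haveI : IsIso eG.hom.left := inferInstanceAs (IsIso ((Over.forget S).map eG.hom))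
  infer_instance

/-- properties of the kernel pass to the projection of an fppf extension -/
theorem property_of_exact (hex : NonAbH1.IsExactSeq Scheme.fppfPrecoverage u v)
    (Q : MorphismProperty Scheme.{u}) [Q.IsStableUnderBaseChange] [IsZariskiLocalAtTarget Q]
    [Q.DescendsAlong AlgSpCov.Fpqc] (hG : Q G.hom) : Q v.left := by
  obtain ⟨-, -, -, hpb, R, hR, hsec⟩ := hex
  refine GITLib.of_fpqc_cover v.left (Scheme.fppfPrecoverage_le_fpqcPrecoverage _ hR) fun W q hq => ?_
  obtain ⟨s, hs⟩ := hsec q hq
  replace hs : s ≫ v.left = q := hs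
  have hl : IsPullback (fst E G).left ((E ◁ u) ≫ μ[E]).left v.left v.left := hpb.map (Over.forget S)
  have h2 : IsPullback (pullback.fst s (fst E G).left) (pullback.snd s (fst E G).left ≫ ((E ◁ u) ≫ μ[E]).left)
      q v.left := hs ▸ (IsPullback.of_hasPullback s (fst E G).left).paste_vert hl
  rw [← h2.isoPullback_inv_fst, Q.cancel_left_of_respectsIso]
  have hfst : Q (fst E G).left := MorphismProperty.pullback_fst (P := Q) E.hom G.hom hG
  exact MorphismProperty.pullback_fst _ _ hfst

theorem etale_of_exact (eG : G ≅ TwC.const S Z) (hex : NonAbH1.IsExactSeq Scheme.fppfPrecoverage u v) :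
    Etale v.left :=
  haveI : IsZariskiLocalAtTarget (@Etale : MorphismProperty Scheme.{u}) :=
    HasRingHomProperty.instIsZariskiLocalAtTarget _ (Q := RingHom.Etale)
  property_of_exact hex @Etale (etale_hom eG)

theorem isSeparated_of_exact (eG : G ≅ TwC.const S Z) (hex : NonAbH1.IsExactSeq Scheme.fppfPrecoverage u v) :
    IsSeparated v.left :=
  haveI : MorphismProperty.DescendsAlong @IsSeparated AlgSpCov.Fpqc := FpqcDesc.descendsAlong_isSeparated
  property_of_exact hex @IsSeparated (isSeparated_hom eG)

omit [GrpObj P] in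
/-- left translation -/
theorem exists_translate_left [GrpObj P] (hex : NonAbH1.IsExactSeq Scheme.fppfPrecoverage u v)
    {T : Over S} (a b : T ⟶ E) (h : a ≫ v = b ≫ v) : ∃! g : T ⟶ G, (g ≫ u) * a = b := by
  haveI : IsMonHom v := hex.2.1
  haveI : IsMonHom u := hex.1
  obtain ⟨g, hg, hu⟩ := exists_translate hex a⁻¹ b⁻¹ (by
    rw [GrpObj.inv_comp, GrpObj.inv_comp, h])
  refine ⟨g⁻¹, ?_, fun g' hg' => ?_⟩
  · show (g⁻¹ ≫ u) * a = b
    rw [GrpObj.inv_comp, ← inv_inj, _root_.mul_inv_rev, _root_.inv_inv]
    exact hg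
  · refine inv_injective ?_
    rw [_root_.inv_inv]
    refine hu _ ?_
    show a⁻¹ * (g'⁻¹ ≫ u) = b⁻¹
    rw [GrpObj.inv_comp, ← _root_.mul_inv_rev, hg']

/-- over a preconnected base an invariant index is constant -/
theorem idx_const_of_connected {eG : G ≅ TwC.const S Z}
    (hex : NonAbH1.IsExactSeq Scheme.fppfPrecoverage u v) [PreconnectedSpace P.left] {f : E ⟶ G}
    (hf : IsInvariant u f) (e e' : E.left) : idx eG f e = idx eG f e' := by
  haveI := etale_of_exact eG hex
  haveI : Flat v.left := inferInstance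
  have hsurj := surjective_of_exact hex
  choose σ hσ using hsurj
  let c : P.left → Z := fun p => idx eG f (σ p)
  have hc : IsLocallyConstant c := fun A => by
    have : c ⁻¹' A = v.left.base '' (idx eG f ⁻¹' A) := by
      ext p
      constructor
      · exact fun hp => ⟨σ p, hp, hσ p⟩
      · rintro ⟨x, hx, rfl⟩
        show idx eG f (σ _) ∈ A
        rw [idx_eq_of_invariant hex hf (σ (v.left.base x)) x (hσ _)]
        exact hx
    rw [this]
    exact v.left.isOpenMap _ ((isLocallyConstant_idx eG f) A)
  rw [← idx_eq_of_invariant hex hf (σ (v.left.base e)) e (hσ _),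
    ← idx_eq_of_invariant hex hf (σ (v.left.base e')) e' (hσ _)]
  exact hc.apply_eq_of_isPreconnected isPreconnected_univ (Set.mem_univ _) (Set.mem_univ _)

end Groth.Agent.ExtConst67
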