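import Groth.Agent.ExtConst67.Basic
import Groth.Prelude.Def_Red
import Mathlib.AlgebraicGeometry.Sites.Fpqc

/-!
# Base change of exact sequences; rigidity on connected fibres
-/

set_option autoImplicit false
universe u

open CategoryTheory CategoryTheory.Limits AlgebraicGeometry MonoidalCategory CartesianMonoidalCategory MonObj GrpObj

namespace Groth.Agent.ExtConst67

variable {S S' : Scheme.{u}} (f : S' ⟶ S)

theorem isPullback_left (X : Over S) :
    IsPullback (pullback.fst X.hom f) (Red.bc f X).hom X.hom f :=
  IsPullback.of_hasPullback X.hom f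

theorem isPullback_map_left {X Y : Over S} (h : X ⟶ Y) :
    IsPullback (pullback.fst X.hom f) ((Over.pullback f).map h).left h.left (pullback.fst Y.hom f) := by
  refine IsPullback.of_bot ?_ (pullback.lift_fst _ _ _).symm (IsPullback.of_hasPullback Y.hom f)
  have e : ((Over.pullback f).map h).left ≫ pullback.snd Y.hom f = pullback.snd X.hom f :=
    Over.w ((Over.pullback f).map h)
  rw [e, Over.w h]
  exact IsPullback.of_hasPullback X.hom f

theorem isExactSeq_pullback {G E P : Over S} [GrpObj G] [GrpObj E] [GrpObj P] {u : G ⟶ E} {v : E ⟶ P}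
    (hex : NonAbH1.IsExactSeq Scheme.fppfPrecoverage u v) :
    NonAbH1.IsExactSeq Scheme.fppfPrecoverage (G' := Red.bc f G) (G := Red.bc f E) (G'' := Red.bc f P)
      ((Over.pullback f).map u) ((Over.pullback f).map v) := by
  obtain ⟨hu, hv, huv, hpb, R, hR, hsec⟩ := hex
  refine ⟨inferInstance, inferInstance, by rw [← Functor.map_comp, huv, Functor.map_one], ?_, ?_⟩
  · have hF := hpb.map (Over.pullback f)
    refine hF.of_iso (Functor.Monoidal.μIso (Over.pullback f) E G).symm (Iso.refl _) (Iso.refl _) (Iso.refl _)
      ?_ ?_ (by simp) (by simp)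
    · simp [Functor.Monoidal.μIso]
    · rw [← cancel_epi (Functor.Monoidal.μIso (Over.pullback f) E G).hom]
      simp only [Iso.symm_hom, Iso.hom_inv_id_assoc, Iso.refl_hom, Category.comp_id]
      show Functor.LaxMonoidal.μ (Over.pullback f) E G ≫ (Over.pullback f).map ((E ◁ u) ≫ μ[E]) =
        ((Over.pullback f).obj E ◁ (Over.pullback f).map u) ≫
          (Functor.LaxMonoidal.μ (Over.pullback f) E E ≫ (Over.pullback f).map μ[E])
      rw [Functor.map_comp, Functor.LaxMonoidal.μ_natural_right_assoc]
  · obtain ⟨J, W, q, rfl⟩ := R.exists_eq_ofArrows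
    obtain ⟨hjs, hprop⟩ := (Scheme.ofArrows_mem_precoverage_iff
      (P := @Flat ⊓ @LocallyOfFinitePresentation)).1 hR
    let π := pullback.fst P.hom f
    refine ⟨Presieve.ofArrows (fun i => pullback π (q i)) (fun i => pullback.fst π (q i)),
      (Scheme.ofArrows_mem_precoverage_iff (P := @Flat ⊓ @LocallyOfFinitePresentation)).2
        ⟨fun x => ?_, fun i => ?_⟩, ?_⟩
    · obtain ⟨i, w, hw⟩ := hjs (π.base x)
      obtain ⟨z, hz, -⟩ := Scheme.Pullback.exists_preimage_pullback (f := π) (g := q i) x w hw.symm
      exact ⟨i, z, hz⟩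
    · haveI : Flat (q i) := (hprop i).1
      haveI : LocallyOfFinitePresentation (q i) := (hprop i).2
      exact ⟨inferInstanceAs (Flat (pullback.fst π (q i))),
        inferInstanceAs (LocallyOfFinitePresentation (pullback.fst π (q i)))⟩
    · rintro _ _ ⟨i⟩
      obtain ⟨s, hs⟩ := hsec (q i) ⟨i⟩
      exact ⟨(isPullback_map_left f v).lift (pullback.snd π (q i) ≫ s) (pullback.fst π (q i)) (by
        rw [Category.assoc]
        erw [hs]
        exact pullback.condition.symm), (isPullback_map_left f v).lift_snd _ _ _⟩

/-- two morphisms to an unramified separated scheme agreeing on a section of a morphism with preconnected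
fibres are equal -/
theorem eq_of_agree_section {X M : Over S} [FormallyUnramified M.hom] [LocallyOfFiniteType M.hom]
    [IsSeparated M.hom] (hc : ∀ s : S, _root_.IsPreconnected (X.hom.base ⁻¹' {s})) (o : 𝟙_ (Over S) ⟶ X)
    {a b : X ⟶ M} (h : o ≫ a = o ≫ b) : a = b := by
  let w : X.left ⟶ pullback M.hom M.hom := pullback.lift a.left b.left ((Over.w a).trans (Over.w b).symm)
  let D := Set.range (pullback.diagonal M.hom).base
  have hD : IsClopen (w.base ⁻¹' D) :=
    ⟨((pullback.diagonal M.hom).isClosedEmbedding.isClosed_range).preimage w.continuous,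
      ((pullback.diagonal M.hom).isOpenEmbedding.isOpen_range).preimage w.continuous⟩
  have ho : ∀ s : S, o.left.base s ∈ w.base ⁻¹' D ∧ X.hom.base (o.left.base s) = s := fun s => by
    refine ⟨⟨(o ≫ a).left.base s, ?_⟩, ?_⟩
    · have e : (o ≫ a).left ≫ pullback.diagonal M.hom = o.left ≫ w := by
        apply pullback.hom_ext
        · simp only [Category.assoc, pullback.diagonal_fst, Category.comp_id, w, pullback.lift_fst]
          rfl
        · simp only [Category.assoc, pullback.diagonal_snd, Category.comp_id, w, pullback.lift_snd]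
          exact congrArg CommaMorphism.left h
      exact congrArg (fun k : S ⟶ pullback M.hom M.hom => k.base s) e
    · exact congrArg (fun k : S ⟶ S => k.base s) (Over.w o)
  have hall : ∀ x, x ∈ w.base ⁻¹' D := fun x =>
    (hc (X.hom.base x)).subset_isClopen hD ⟨o.left.base (X.hom.base x), (ho _).2, (ho _).1⟩ rfl
  have hr : Set.range w ⊆ Set.range (pullback.diagonal M.hom) := by
    rintro _ ⟨x, rfl⟩
    exact hall x
  have hl := IsOpenImmersion.lift_fac (pullback.diagonal M.hom) w hr
  have h1 := congrArg (· ≫ pullback.fst M.hom M.hom) hl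
  have h2 := congrArg (· ≫ pullback.snd M.hom M.hom) hl
  simp only [Category.assoc, pullback.diagonal_fst, pullback.diagonal_snd, Category.comp_id, w,
    pullback.lift_fst, pullback.lift_snd] at h1 h2
  exact Over.OverMorphism.ext (h1.symm.trans h2)

end Groth.Agent.ExtConst67
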