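import Groth.Agent.ExtConst67.Basic
import Groth.Agent.SmoothUnib67.Basic
import Mathlib.AlgebraicGeometry.Morphisms.UniversallyOpen

/-!
# Morphisms to a constant group scheme are determined by, and extend from, the generic fibre
-/

set_option autoImplicit false
universe u

open CategoryTheory CategoryTheory.Limits AlgebraicGeometry MonoidalCategory CartesianMonoidalCategory MonObj GrpObj

namespace Groth.Agent.ExtConst67

variable {S : Scheme.{u}} {Z : Type u} {G : Over S} (eG : G ≅ TwC.const S Z)

/-- a morphism with prescribed locally constant index -/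
theorem exists_of_idx {T : Over S} (c : T.left → Z) (hc : IsLocallyConstant c) :
    ∃ a : T ⟶ G, ∀ t, idx eG a t = c t := by
  let U : Z → T.left.Opens := fun m => ⟨c ⁻¹' {m}, hc {m}⟩
  let d : (∐ fun m => (U m : Scheme.{u})) ⟶ T.left := Sigma.desc fun m => (U m).ι
  haveI : IsOpenImmersion d := isOpenImmersion_sigmaDesc _ _ fun m n hmn => by
    refine Set.disjoint_left.2 ?_
    rintro _ ⟨x, rfl⟩ ⟨y, hy⟩
    exact hmn (x.2.symm.trans ((congrArg c hy.symm).trans y.2))
  have hpt : ∀ {Y : Scheme.{u}} (β : ∀ m, (U m : Scheme.{u}) ⟶ Y) (m : Z) (w : (U m : Scheme.{u})),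
      (Sigma.desc β).base ((Sigma.ι (fun m => (U m : Scheme.{u})) m).base w) = (β m).base w := fun β m w =>
    (Scheme.Hom.comp_apply _ _ w).symm.trans (by rw [Sigma.ι_desc])
  haveI : Epi d.base := by
    rw [TopCat.epi_iff_surjective]
    intro t
    refine ⟨(Sigma.ι (fun m => (U m : Scheme.{u})) (c t)).base ⟨t, rfl⟩, ?_⟩
    exact (hpt _ _ _).trans rfl
  haveI : IsIso d := IsOpenImmersion.isIso _
  let b : (∐ fun m => (U m : Scheme.{u})) ⟶ (TwC.const S Z).left :=
    Sigma.desc fun m => (U m).ι ≫ T.hom ≫ Sigma.ι (fun _ : Z => S) m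
  have hw : (inv d ≫ b) ≫ (TwC.const S Z).hom = T.hom := by
    rw [Category.assoc, IsIso.inv_comp_eq]
    apply Sigma.hom_ext
    intro m
    simp [b, d]
  let a₀ : T ⟶ TwC.const S Z := Over.homMk (inv d ≫ b) hw
  refine ⟨a₀ ≫ eG.inv, fun t => ?_⟩
  unfold idx
  rw [Category.assoc, Iso.inv_hom_id, Category.comp_id]
  have h1 : (inv d).base t = (Sigma.ι (fun m => (U m : Scheme.{u})) (c t)).base ⟨t, rfl⟩ := by
    apply d.isOpenEmbedding.injective
    refine (Scheme.Hom.comp_apply _ _ _).symm.trans ?_
    rw [IsIso.inv_hom_id]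
    exact (hpt (fun m => (U m).ι) (c t) ⟨t, rfl⟩).symm
  show ((sigmaMk (fun _ : Z => S)).symm ((inv d ≫ b).base t)).1 = c t
  rw [Scheme.Hom.comp_apply, h1]
  erw [hpt]
  show ((sigmaMk (fun _ : Z => S)).symm
    ((Sigma.ι (fun _ : Z => S) (c t)).base (T.hom.base t))).1 = c t
  rw [← sigmaMk_mk (fun _ : Z => S) (c t), Homeomorph.symm_apply_apply]

variable [Group Z] [GrpObj G] {eG}

theorem idx_inv (hG : TwC.IsConstGrp Z G eG) {T : Over S} (a : T ⟶ G) (t : T.left) :
    idx eG a⁻¹ t = (idx eG a t)⁻¹ := by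
  rw [eq_inv_iff_mul_eq_one, ← idx_mul hG, _root_.inv_mul_cancel, idx_one hG]

theorem eq_of_idx_eq (hG : TwC.IsConstGrp Z G eG) {T : Over S} (a b : T ⟶ G)
    (h : ∀ t, idx eG a t = idx eG b t) : a = b :=
  mul_inv_eq_one.1 (eq_one_of_idx hG _ fun t => by rw [idx_mul hG, idx_inv hG, h, _root_.mul_inv_cancel])

/-- morphisms to a constant group from the generic fibre extend uniquely over an irreducible base -/
theorem bijective_restrict (hG : TwC.IsConstGrp Z G eG) [IrreducibleSpace S] {ξ : S}
    (hξ : IsGenericPoint ξ (Set.univ : Set S)) (T : Over S) [Flat T.hom] (hT : SmoothUnib67.LocIrred T.left) :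
    Function.Bijective (fun a : T ⟶ G => (Over.pullback (S.fromSpecResidueField ξ)).map a) := by
  let r := S.fromSpecResidueField ξ
  let adj := Over.mapPullbackAdj r
  let q : (Over.map r).obj ((Over.pullback r).obj T) ⟶ T := adj.counit.app T
  have key : ∀ a : T ⟶ G, (adj.homEquiv _ _).symm ((Over.pullback r).map a) = q ≫ a := fun a => by
    rw [Adjunction.homEquiv_counit]
    exact adj.counit.naturality a
  suffices h : Function.Bijective (fun a : T ⟶ G => q ≫ a) by
    have : (fun a : T ⟶ G => (Over.pullback r).map a) = (adj.homEquiv _ _) ∘ fun a => q ≫ a :=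
      funext fun a => by simp only [Function.comp_apply, ← key, Equiv.apply_symm_apply]
    show Function.Bijective (fun a : T ⟶ G => (Over.pullback r).map a)
    rw [this]
    exact (adj.homEquiv _ _).bijective.comp h
  have hqleft : q.left = pullback.fst T.hom r := by simp [q, adj]
  have hrange : Set.range q.left.base = T.hom.base ⁻¹' {ξ} := by
    rw [hqleft, Scheme.Pullback.range_fst, Scheme.range_fromSpecResidueField]
  haveI : IsPreimmersion q.left := by rw [hqleft]; infer_instance
  have hmax : ∀ x : T.left, SmoothUnib67.IsMaxPt x → x ∈ Set.range q.left.base := fun x hx => by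
    obtain ⟨w, hw, hwx⟩ := Flat.generalizingMap T.hom (hξ.specializes (Set.mem_univ (T.hom.base x)))
    rw [hrange]
    show T.hom.base x = ξ
    have h1 : ξ ⤳ T.hom.base x := hξ.specializes (Set.mem_univ _)
    have h2 : T.hom.base x ⤳ ξ := hwx ▸ (hx w hw).map T.hom.continuous
    exact (h2.antisymm h1).eq
  have hspec : ∀ {c : T.left → Z}, IsLocallyConstant c → ∀ {x y : T.left}, y ⤳ x → c y = c x :=
    fun {c} hc {x y} h => (h.mem_open (hc.isOpen_fiber (c x)) rfl : _)
  refine ⟨fun a b hab => eq_of_idx_eq hG a b fun x => ?_, fun g => ?_⟩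
  · obtain ⟨m, hm, hmx⟩ := SmoothUnib67.exists_max hT x
    obtain ⟨z, hz⟩ := hmax m hm
    rw [← hspec (isLocallyConstant_idx eG a) hmx, ← hspec (isLocallyConstant_idx eG b) hmx, ← hz,
      ← idx_comp, ← idx_comp]
    exact congrArg (fun e => idx eG e z) hab
  · choose m hm hmx using SmoothUnib67.exists_max hT
    have hmr : ∀ x, ∃ z, q.left.base z = m x := fun x => hmax (m x) (hm x)
    choose z hz using hmr
    let c : T.left → Z := fun x => idx eG g (z x)
    have hc : IsLocallyConstant c := by
      rw [IsLocallyConstant.iff_exists_open]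
      intro x
      refine ⟨{y | m x ⤳ y}, SmoothUnib67.isOpen_spec hT (hm x), hmx x, fun y hy => ?_⟩
      have h1 : m x = m y := SmoothUnib67.max_unique hT (hm x) hy (hm y) (hmx y)
      show idx eG g (z y) = idx eG g (z x)
      rw [q.left.isEmbedding.injective ((hz y).trans (h1.symm.trans (hz x).symm))]
    obtain ⟨a, ha⟩ := exists_of_idx eG c hc
    refine ⟨a, eq_of_idx_eq hG _ _ fun w => ?_⟩
    rw [idx_comp, ha]
    show idx eG g (z (q.left.base w)) = idx eG g w
    have h1 : z (q.left.base w) ⤳ w := by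
      rw [← q.left.isEmbedding.specializes_iff, hz]
      exact hmx _
    exact (h1.mem_open ((isLocallyConstant_idx eG g).isOpen_fiber (idx eG g w)) rfl : _)

end Groth.Agent.ExtConst67
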