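import Groth.Agent.ExtConst67.Etale
import Groth.Agent.SmoothUnib67.Basic
import Groth.Agent.TwCLib.Structure
import Mathlib.AlgebraicGeometry.Morphisms.FlatMono
import Mathlib.AlgebraicGeometry.Morphisms.QuasiFinite

/-!
# Extensions by torsion-free constant groups over locally irreducible bases have sections
-/

set_option autoImplicit false
universe u

open CategoryTheory CategoryTheory.Limits AlgebraicGeometry MonoidalCategory CartesianMonoidalCategory MonObj GrpObj

namespace Groth.Agent.ExtConst67

open Groth.Agent.SmoothUnib67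

variable {S : Scheme.{u}} {Z : Type u} [Group Z] {G E P : Over S} [GrpObj G] [GrpObj E] [GrpObj P]
  {eG : G ≅ TwC.const S Z} {u : G ⟶ E} {v : E ⟶ P}

theorem exists_section (hG : TwC.IsConstGrp Z G eG) (hZ : ∀ z : Z, IsOfFinOrder z → z = 1)
    (hex : NonAbH1.IsExactSeq Scheme.fppfPrecoverage u v) (hX : LocIrred E.left) (hP : LocIrred P.left) :
    ∃ σ : P ⟶ E, σ ≫ v = 𝟙 P ∧ η[P] ≫ σ = η[E] := by
  haveI : IsMonHom u := hex.1
  haveI : IsMonHom v := hex.2.1
  haveI : Etale v.left := etale_of_exact eG hex
  haveI : LocallyQuasiFinite v.left := EtStruct.locallyQuasiFinite_of_formallyUnramified _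
  have hsurj := surjective_of_exact hex
  -- translations
  let t : Z → (E ⟶ E) := fun n => (cpt eG E n ≫ u) * 𝟙 E
  have hta : ∀ ⦃T : Over S⦄ (a : T ⟶ E) (n : Z), a ≫ t n = (cpt eG T n ≫ u) * a := fun T a n => by
    rw [MonObj.comp_mul, Category.comp_id, ← Category.assoc]
    congr 2
    simp [cpt]
  have htmul : ∀ n m : Z, t n ≫ t m = t (m * n) := fun n m => by
    rw [hta (t n) m]
    show (cpt eG E m ≫ u) * ((cpt eG E n ≫ u) * 𝟙 E) = (cpt eG E (m * n) ≫ u) * 𝟙 E
    rw [← _root_.mul_assoc, ← MonObj.mul_comp, cpt_mul hG]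
  have ht1 : t 1 = 𝟙 E := by
    show (cpt eG E 1 ≫ u) * 𝟙 E = 𝟙 E
    rw [← eq_cpt eG (1 : E ⟶ G) 1 fun q => idx_one hG q, MonObj.one_comp, _root_.one_mul]
  have htv : ∀ n : Z, t n ≫ v = v := fun n => by
    show ((cpt eG E n ≫ u) * 𝟙 E) ≫ v = v
    rw [MonObj.mul_comp, Category.assoc, hex.2.2.1, MonObj.comp_one, _root_.one_mul, Category.id_comp]
  have htinv : ∀ n : Z, ∀ x, (t n⁻¹).left.base ((t n).left.base x) = x := fun n x => by
    rw [← Scheme.Hom.comp_apply, ← Over.comp_left, htmul, _root_.inv_mul_cancel, ht1]; rfl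
  have htinv' : ∀ n : Z, ∀ x, (t n).left.base ((t n⁻¹).left.base x) = x := fun n x => by
    simpa using htinv n⁻¹ x
  have htmax : ∀ (n : Z) (x : E.left), IsMaxPt x → IsMaxPt ((t n).left.base x) := fun n x hx z hz => by
    have h1 := hx _ (by simpa [htinv] using hz.map (t n⁻¹).left.continuous)
    simpa [htinv'] using h1.map (t n).left.continuous
  have htimg : ∀ (n : Z) (x : E.left), v.left.base ((t n).left.base x) = v.left.base x := fun n x => by
    rw [← Scheme.Hom.comp_apply, ← Over.comp_left, htv]
  -- two points with the same image differ by a translation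
  have htrans : ∀ x y : E.left, v.left.base x = v.left.base y → ∃ n : Z, (t n).left.base x = y := by
    intro x y hxy
    obtain ⟨z, hz1, hz2⟩ := Scheme.Pullback.exists_preimage_pullback (f := v.left) (g := v.left) x y hxy
    let ρ := (pullback v.left v.left).fromSpecResidueField z
    let T : Over S := Over.mk (ρ ≫ pullback.fst v.left v.left ≫ E.hom)
    let a : T ⟶ E := Over.homMk (ρ ≫ pullback.fst v.left v.left) (Category.assoc _ _ _)
    let b : T ⟶ E := Over.homMk (ρ ≫ pullback.snd v.left v.left) (by
      show (ρ ≫ _) ≫ E.hom = ρ ≫ pullback.fst v.left v.left ≫ E.hom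
      rw [Category.assoc, ← Over.w v, ← pullback.condition_assoc])
    haveI : Subsingleton T.left := inferInstanceAs (Subsingleton (PrimeSpectrum ((pullback v.left v.left).residueField z)))
    let q : T.left := IsLocalRing.closedPoint ((pullback v.left v.left).residueField z)
    obtain ⟨g, hg, -⟩ := exists_translate_left hex a b (Over.OverMorphism.ext (by
      show (ρ ≫ _) ≫ v.left = (ρ ≫ _) ≫ v.left
      rw [Category.assoc, Category.assoc, pullback.condition]))
    have hn : a ≫ t (idx eG g q) = b := by rw [hta, ← eq_of_idx eG g q, hg]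
    refine ⟨idx eG g q, ?_⟩
    have h1 : a.left.base q = x := by
      show (ρ ≫ pullback.fst _ _).base q = x
      rw [Scheme.Hom.comp_apply, Scheme.fromSpecResidueField_apply, hz1]
    have h2 : b.left.base q = y := by
      show (ρ ≫ pullback.snd _ _).base q = y
      rw [Scheme.Hom.comp_apply, Scheme.fromSpecResidueField_apply, hz2]
    rw [← h1, ← h2]
    exact congrArg (fun e : T ⟶ E => e.left.base q) hn
  have hmaxX : ∀ x : E.left, IsMaxPt x → IsMaxPt (v.left.base x) := fun x hx z hz => by
    obtain ⟨w, hw, rfl⟩ := Flat.generalizingMap v.left hz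
    exact (hx w hw).map v.left.continuous
  have hmaxover : ∀ x : E.left, IsMaxPt (v.left.base x) → IsMaxPt x := fun x hx z hz => by
    have h1 : v.left.base z = v.left.base x :=
      ((hx _ (hz.map v.left.continuous)).antisymm (hz.map v.left.continuous)).eq.symm
    have hd := v.left.isDiscrete_preimage_singleton (v.left.base x)
    haveI := hd.to_subtype
    have h3 : (⟨z, h1⟩ : v.left.base ⁻¹' {v.left.base x}) ⤳ ⟨x, rfl⟩ := subtype_specializes_iff _ _ |>.2 hz
    rw [specializes_iff_eq] at h3
    rw [show z = x from congrArg Subtype.val h3]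
  choose gp hgmax hgle using fun p : P.left => exists_max hP p
  choose lam hlam using hsurj
  let U : E.left.Opens := ⟨{x | lam (gp (v.left.base x)) ⤳ x}, by
    rw [isOpen_iff_mem_nhds]
    intro x hx
    have hl : IsMaxPt (lam (gp (v.left.base x))) := hmaxover _ (by rw [hlam]; exact hgmax _)
    refine Filter.mem_of_superset ((isOpen_spec hX hl).mem_nhds hx) fun y hy => ?_
    have h1 : gp (v.left.base x) ⤳ v.left.base y := hlam (gp (v.left.base x)) ▸ hy.map v.left.continuous
    show lam (gp (v.left.base y)) ⤳ y
    rw [← max_unique hP (hgmax _) h1 (hgmax _) (hgle _)]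
    exact hy⟩
  have hstab : ∀ (x : E.left) (n : Z), (t n).left.base x = x → n = 1 := by
    intro x
    let N : Submonoid Z :=
      { carrier := {n | (t n).left.base x = x}
        one_mem' := by
          show (t 1).left.base x = x
          rw [ht1]; rfl
        mul_mem' := fun {a b} ha hb => by
          show (t (a * b)).left.base x = x
          rw [← htmul, Over.comp_left, Scheme.Hom.comp_apply, hb, ha] }
    let res := Spec.map (v.left.residueFieldMap x)
    let W : Over S := Over.mk (pullback.fst res res ≫ E.left.fromSpecResidueField x ≫ E.hom)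
    let a : W ⟶ E := Over.homMk (pullback.fst res res ≫ E.left.fromSpecResidueField x) (Category.assoc _ _ _)
    have hab : (pullback.fst res res ≫ E.left.fromSpecResidueField x) ≫ v.left =
        (pullback.snd res res ≫ E.left.fromSpecResidueField x) ≫ v.left := by
      rw [Category.assoc, Category.assoc, ← v.left.SpecMap_residueFieldMap_fromSpecResidueField x]
      exact pullback.condition_assoc _
    let b : W ⟶ E := Over.homMk (pullback.snd res res ≫ E.left.fromSpecResidueField x) (by
      show _ = pullback.fst res res ≫ E.left.fromSpecResidueField x ≫ E.hom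
      rw [← Category.assoc, ← Over.w v, ← Category.assoc, ← Category.assoc, hab])
    obtain ⟨g, hg, -⟩ := exists_translate_left hex a b (Over.OverMorphism.ext hab)
    haveI : CompactSpace W.left := inferInstanceAs (CompactSpace ↥(pullback res res))
    have hfin : (N : Set Z).Finite := by
      refine (isLocallyConstant_idx eG g).range_finite.subset fun n hn => ?_
      let T : Over S := Over.mk (E.left.fromSpecResidueField x ≫ E.hom)
      let i : T ⟶ E := Over.homMk (E.left.fromSpecResidueField x) rfl
      let q : T.left := IsLocalRing.closedPoint (E.left.residueField x)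
      obtain ⟨ψ, hψ⟩ := TwCLib.exists_residue_factor (K := E.left.residueField x) (i ≫ t n).left x (by
        show ((E.left.fromSpecResidueField x) ≫ (t n).left).base q = x
        rw [Scheme.Hom.comp_apply, Scheme.fromSpecResidueField_apply]
        exact hn)
      have hψr : Spec.map ψ ≫ res = res := by
        rw [← cancel_mono (P.left.fromSpecResidueField (v.left.base x)), Category.assoc,
          v.left.SpecMap_residueFieldMap_fromSpecResidueField, ← Category.assoc, hψ, ← Over.comp_left,
          Category.assoc, htv]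
        rfl
      let l : T ⟶ W := Over.homMk (pullback.lift (𝟙 _) (Spec.map ψ) (by rw [Category.id_comp, hψr])) (by
        show pullback.lift _ _ _ ≫ pullback.fst res res ≫ _ = _
        rw [pullback.lift_fst_assoc, Category.id_comp]
        rfl)
      have hla : l ≫ a = i := Over.OverMorphism.ext (by
        show pullback.lift _ _ _ ≫ pullback.fst res res ≫ _ = _
        rw [pullback.lift_fst_assoc, Category.id_comp]
        rfl)
      have hlb : l ≫ b = i ≫ t n := Over.OverMorphism.ext (by
        show pullback.lift _ _ _ ≫ pullback.snd res res ≫ _ = _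
        rw [pullback.lift_snd_assoc]
        exact hψ)
      have hlg : l ≫ g = cpt eG T n :=
        (exists_translate_left hex i (i ≫ t n) (by rw [Category.assoc, htv])).unique
          (by rw [← hla, Category.assoc l g u, ← MonObj.comp_mul, hg, hla, hlb]) (hta i n).symm
      exact ⟨l.left.base q, by rw [← idx_comp, hlg, idx_cpt]⟩
    exact fun n hn => hZ n (finite_powers.1 (hfin.subset (Submonoid.powers_le.2 (show n ∈ N from hn))))
  haveI : Mono (U.ι ≫ v.left) := ⟨fun {W} a b hab => by
    let T : Over S := Over.mk (a ≫ U.ι ≫ E.hom)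
    let a' : T ⟶ E := Over.homMk (a ≫ U.ι) (Category.assoc _ _ _)
    have hab' : (a ≫ U.ι) ≫ v.left = (b ≫ U.ι) ≫ v.left := by simpa only [Category.assoc] using hab
    let b' : T ⟶ E := Over.homMk (b ≫ U.ι) (by
      show (b ≫ U.ι) ≫ E.hom = a ≫ U.ι ≫ E.hom
      rw [← Category.assoc a, ← Over.w v, ← Category.assoc, ← Category.assoc, hab'])
    obtain ⟨g, hg, -⟩ := exists_translate_left hex a' b' (Over.OverMorphism.ext hab')
    have hg1 : g = 1 := eq_one_of_idx hG g fun w => by
      let T' : Over S := Over.mk (T.left.fromSpecResidueField w ≫ T.hom)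
      let i : T' ⟶ T := Over.homMk (T.left.fromSpecResidueField w) rfl
      haveI : Subsingleton T'.left := inferInstanceAs (Subsingleton (PrimeSpectrum (T.left.residueField w)))
      obtain ⟨w'⟩ : Nonempty T'.left := inferInstanceAs (Nonempty (PrimeSpectrum (T.left.residueField w)))
      have hw : i.left.base w' = w := T.left.fromSpecResidueField_apply w w'
      have h3 := congrArg (fun q => i ≫ q) hg
      rw [MonObj.comp_mul, ← Category.assoc i g u, eq_of_idx eG (i ≫ g) w', idx_comp, hw, ← hta] at h3
      have hn : (t (idx eG g w)).left.base (a'.left.base w) = b'.left.base w := by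
        have h4 := congrArg (fun q : T' ⟶ E => q.left.base w') h3
        simp only [Over.comp_left, Scheme.Hom.comp_apply, hw] at h4
        exact h4
      have ha0 : lam (gp (v.left.base (a'.left.base w))) ⤳ a'.left.base w := (a.base w).2
      have hb0 : lam (gp (v.left.base (b'.left.base w))) ⤳ b'.left.base w := (b.base w).2
      rw [← hn, htimg] at hb0
      have hl : IsMaxPt (lam (gp (v.left.base (a'.left.base w)))) := hmaxover _ (by rw [hlam]; exact hgmax _)
      exact hstab (lam (gp (v.left.base (a'.left.base w)))) _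
        (max_unique hX (htmax _ _ hl) (ha0.map (t _).left.continuous) hl hb0)
    rw [hg1, MonObj.one_comp, _root_.one_mul] at hg
    exact (cancel_mono U.ι).1 (congrArg CommaMorphism.left hg)⟩
  haveI : IsOpenImmersion (U.ι ≫ v.left) := IsOpenImmersion.of_flat_of_mono _
  haveI : Epi (U.ι ≫ v.left).base := by
    rw [TopCat.epi_iff_surjective]
    intro p
    obtain ⟨l', hl', hl'x⟩ := exists_max hX (lam p)
    have h1 : v.left.base l' = gp p :=
      max_unique hP (hmaxX _ hl') (hlam p ▸ hl'x.map v.left.continuous) (hgmax p) (hgle p)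
    obtain ⟨n, hn⟩ := htrans l' (lam (gp p)) (h1.trans (hlam _).symm)
    have himg : v.left.base ((t n).left.base (lam p)) = p := by rw [htimg, hlam]
    refine ⟨⟨(t n).left.base (lam p), ?_⟩, himg⟩
    show lam (gp (v.left.base ((t n).left.base (lam p)))) ⤳ (t n).left.base (lam p)
    rw [himg, ← hn]
    exact hl'x.map (t n).left.continuous
  haveI : IsIso (U.ι ≫ v.left) := IsOpenImmersion.isIso _
  let σ : P ⟶ E := Over.homMk (inv (U.ι ≫ v.left) ≫ U.ι) (by
    rw [← Over.w v, Category.assoc, ← Category.assoc U.ι, IsIso.inv_hom_id_assoc])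
  have hσ : σ ≫ v = 𝟙 P := Over.OverMorphism.ext (by
    show (inv (U.ι ≫ v.left) ≫ U.ι) ≫ v.left = 𝟙 _
    rw [Category.assoc, IsIso.inv_hom_id])
  -- normalise at the unit
  refine ⟨σ * (toUnit P ≫ η[P] ≫ σ)⁻¹, ?_, ?_⟩
  · rw [MonObj.mul_comp, GrpObj.inv_comp, Category.assoc, Category.assoc, hσ, Category.comp_id,
      ← Hom.one_def, _root_.inv_one, _root_.mul_one]
  · have e : η[P] ≫ toUnit P = 𝟙 _ := toUnit_unique _ _
    rw [MonObj.comp_mul, GrpObj.comp_inv, ← Category.assoc η[P] (toUnit P), e, Category.id_comp,
      _root_.mul_inv_cancel, Hom.one_def, toUnit_unit, Category.id_comp]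

end Groth.Agent.ExtConst67
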