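import Groth.Agent.ExtConst67.Extend
import Groth.Agent.ExtConst67.Section
import Groth.Prelude.Def_Red
import Mathlib.AlgebraicGeometry.Sites.Fpqc

/-!
# Extending an extension by a constant group from the generic fibre
-/

set_option autoImplicit false
universe u

open CategoryTheory CategoryTheory.Limits AlgebraicGeometry MonoidalCategory CartesianMonoidalCategory MonObj GrpObj

namespace Groth.Agent.ExtConst67

variable {S : Scheme.{u}} {ξ : S} {G P : Over S} [GrpObj G] [GrpObj P]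
  {E' : Over (Spec (S.residueField ξ))} [GrpObj E']
  (u' : Red.bc (S.fromSpecResidueField ξ) G ⟶ E') (σ : Red.bc (S.fromSpecResidueField ξ) P ⟶ E')

local notation "F" => Over.pullback (Scheme.fromSpecResidueField S ξ)

/-- the comparison map of the generic fibre of `G × P` with `E'` -/
noncomputable def gluePhi : (F).obj (G ⊗ P) ⟶ E' :=
  ((F).map (fst G P) ≫ u') * ((F).map (snd G P) ≫ σ)

/-- the generic fibre of a point of `G × P`, read in `E'` -/
noncomputable def gluePt {T : Over S} (a : T ⟶ G ⊗ P) : (F).obj T ⟶ E' := (F).map a ≫ gluePhi u' σ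

theorem gluePt_comp {T T' : Over S} (h : T' ⟶ T) (a : T ⟶ G ⊗ P) :
    gluePt u' σ (h ≫ a) = (F).map h ≫ gluePt u' σ a := by
  simp [gluePt]

theorem gluePt_eq {T : Over S} (a : T ⟶ G ⊗ P) :
    gluePt u' σ a = ((F).map (a ≫ fst G P) ≫ u') * ((F).map (a ≫ snd G P) ≫ σ) := by
  rw [gluePt, gluePhi, MonObj.comp_mul, Functor.map_comp, Functor.map_comp, Category.assoc, Category.assoc]

theorem smooth_tensor (A B : Over S) [Smooth A.hom] [Smooth B.hom] : Smooth (A ⊗ B).hom :=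
  inferInstanceAs (Smooth (pullback.fst A.hom B.hom ≫ A.hom))

theorem hom_ext_bc {T : Over (Spec (S.residueField ξ))} {A B : Over S} {a b : T ⟶ (F).obj (A ⊗ B)}
    (h₁ : a ≫ (F).map (fst A B) = b ≫ (F).map (fst A B))
    (h₂ : a ≫ (F).map (snd A B) = b ≫ (F).map (snd A B)) : a = b := by
  rw [← cancel_mono (Functor.OplaxMonoidal.δ (F) A B)]
  apply CartesianMonoidalCategory.hom_ext
  · simpa using h₁
  · simpa using h₂

variable {Z : Type u} [Group Z] {eG : G ≅ TwC.const S Z}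
  (v' : E' ⟶ Red.bc (S.fromSpecResidueField ξ) P)

/-- **Gluing**: an fppf extension on the generic fibre with a normalised section comes from `S`. -/
theorem exists_glue (hG : TwC.IsConstGrp Z G eG)
    (hbij : ∀ (T : Over S), Smooth T.hom → Function.Bijective (fun a : T ⟶ G => (F).map a))
    [Smooth G.hom] [Smooth P.hom]
    (hex' : NonAbH1.IsExactSeq Scheme.fppfPrecoverage u' v') (hσ : σ ≫ v' = 𝟙 _)
    (hσ1 : η[Red.bc (S.fromSpecResidueField ξ) P] ≫ σ = η[E']) :
    ∃ (E : Over S) (_ : GrpObj E) (u : G ⟶ E) (v : E ⟶ P)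
      (φ : Red.bc (S.fromSpecResidueField ξ) E ≅ E'),
      NonAbH1.IsExactSeq Scheme.fppfPrecoverage u v ∧ IsMonHom φ.hom ∧
        (Over.pullback (S.fromSpecResidueField ξ)).map u ≫ φ.hom = u' ∧
        φ.hom ≫ v' = (Over.pullback (S.fromSpecResidueField ξ)).map v := by
  haveI : IsMonHom u' := hex'.1
  haveI : IsMonHom v' := hex'.2.1
  haveI hsm : Smooth (G ⊗ P).hom := smooth_tensor G P
  have hu'v' : u' ≫ v' = 1 := hex'.2.2.1
  have hu'inj : ∀ {T : Over (Spec (S.residueField ξ))} (g g' : T ⟶ Red.bc (S.fromSpecResidueField ξ) G),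
      g ≫ u' = g' ≫ u' → g = g' := fun g g' h =>
    (exists_translate_left hex' 1 (g ≫ u') (by
      rw [MonObj.one_comp, Category.assoc, hu'v', MonObj.comp_one])).unique
      (show (g ≫ u') * 1 = g ≫ u' by rw [_root_.mul_one])
      (show (g' ≫ u') * 1 = g ≫ u' by rw [_root_.mul_one, h])
  let p : ∀ {T : Over S}, (T ⟶ G ⊗ P) → ((F).obj T ⟶ E') := fun a => gluePt u' σ a
  have hpv : ∀ {T : Over S} (a : T ⟶ G ⊗ P), p a ≫ v' = (F).map (a ≫ snd G P) := fun a => by
    simp only [p]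
    rw [gluePt_eq, MonObj.mul_comp, Category.assoc, hu'v', MonObj.comp_one, _root_.one_mul, Category.assoc, hσ,
      Category.comp_id]
  -- separation and existence
  have ext : ∀ {T : Over S}, Smooth T.hom → ∀ a b : T ⟶ G ⊗ P, a ≫ snd G P = b ≫ snd G P → p a = p b →
      a = b := fun {T} hT a b h₂ hp => by
    simp only [p] at hp
    rw [gluePt_eq, gluePt_eq, h₂] at hp
    exact CartesianMonoidalCategory.hom_ext _ _ ((hbij T hT).1 (hu'inj _ _ (mul_right_cancel hp))) h₂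
  have exi : ∀ {T : Over S}, Smooth T.hom → ∀ (x : T ⟶ P) (e : (F).obj T ⟶ E'), e ≫ v' = (F).map x →
      ∃ a : T ⟶ G ⊗ P, a ≫ snd G P = x ∧ p a = e := fun {T} hT x e he => by
    obtain ⟨g', hg', -⟩ := exists_translate_left hex' ((F).map x ≫ σ) e (by
      rw [Category.assoc, hσ, Category.comp_id, he])
    obtain ⟨g, hg⟩ := (hbij T hT).2 g'
    replace hg : (F).map g = g' := hg
    refine ⟨lift g x, lift_snd _ _, ?_⟩
    simp only [p]
    rw [gluePt_eq, lift_fst, lift_snd]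
    exact hg ▸ hg'
  haveI hEE : Smooth ((G ⊗ P) ⊗ (G ⊗ P)).hom := smooth_tensor _ _
  haveI : Smooth (𝟙_ (Over S)).hom := inferInstanceAs (Smooth (𝟙 S))
  obtain ⟨m, hm₂, hm⟩ := exi hEE ((fst _ _ ≫ snd G P) * (snd (G ⊗ P) (G ⊗ P) ≫ snd G P))
    (p (fst (G ⊗ P) (G ⊗ P)) * p (snd (G ⊗ P) (G ⊗ P))) (by
      rw [MonObj.mul_comp, hpv, hpv, ← Functor.map_mul])
  have hmul₂ : ∀ {T : Over S} (a b : T ⟶ G ⊗ P), (lift a b ≫ m) ≫ snd G P = (a ≫ snd G P) * (b ≫ snd G P) :=
    fun a b => by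
      rw [Category.assoc, hm₂, MonObj.comp_mul, lift_fst_assoc, lift_snd_assoc]
  have hmul : ∀ {T : Over S} (a b : T ⟶ G ⊗ P), p (lift a b ≫ m) = p a * p b := fun a b => by
    show gluePt u' σ (lift a b ≫ m) = p a * p b
    rw [gluePt_comp]
    show (F).map (lift a b) ≫ p m = _
    rw [hm, MonObj.comp_mul]
    simp only [p]
    rw [← gluePt_comp, ← gluePt_comp, lift_fst, lift_snd]
  obtain ⟨o, ho₂, ho⟩ := exi (T := 𝟙_ (Over S)) inferInstance 1 1 (by rw [MonObj.one_comp, Functor.map_one])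
  have hone₂ : ∀ {T : Over S} (h : T ⟶ 𝟙_ (Over S)), (h ≫ o) ≫ snd G P = 1 := fun h => by
    rw [Category.assoc, ho₂, MonObj.comp_one]
  have hone : ∀ {T : Over S} (h : T ⟶ 𝟙_ (Over S)), p (h ≫ o) = 1 := fun h => by
    show gluePt u' σ (h ≫ o) = 1
    rw [gluePt_comp]
    show (F).map h ≫ p o = 1
    rw [ho, MonObj.comp_one]
  obtain ⟨i, hi₂, hi⟩ := exi hsm (snd G P)⁻¹ (p (𝟙 (G ⊗ P)))⁻¹ (by
    rw [GrpObj.inv_comp, hpv, Category.id_comp, Functor.map_inv'])
  letI instE : GrpObj (G ⊗ P) :=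
    { one := o
      mul := m
      one_mul := by
        haveI := smooth_tensor (𝟙_ (Over S)) (G ⊗ P)
        have e : o ▷ (G ⊗ P) = lift (fst _ _ ≫ o) (snd _ _) := by
          apply CartesianMonoidalCategory.hom_ext <;> simp only [whiskerRight_fst, whiskerRight_snd, lift_fst, lift_snd]
        rw [e, leftUnitor_hom]
        exact ext inferInstance _ _ (by rw [hmul₂, hone₂, _root_.one_mul])
          (by rw [hmul, hone, _root_.one_mul])
      mul_one := by
        haveI := smooth_tensor (G ⊗ P) (𝟙_ (Over S))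
        have e : (G ⊗ P) ◁ o = lift (fst _ _) (snd _ _ ≫ o) := by
          apply CartesianMonoidalCategory.hom_ext <;> simp only [whiskerLeft_fst, whiskerLeft_snd, lift_fst, lift_snd]
        rw [e, rightUnitor_hom]
        exact ext inferInstance _ _ (by rw [hmul₂, hone₂, _root_.mul_one])
          (by rw [hmul, hone, _root_.mul_one])
      mul_assoc := by
        haveI := smooth_tensor ((G ⊗ P) ⊗ (G ⊗ P)) (G ⊗ P)
        have e₁ : m ▷ (G ⊗ P) = lift (lift (fst _ _ ≫ fst _ _) (fst _ _ ≫ snd _ _) ≫ m) (snd _ _) := by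
          apply CartesianMonoidalCategory.hom_ext
          · rw [whiskerRight_fst, lift_fst]
            congr 1
            apply CartesianMonoidalCategory.hom_ext <;> simp only [lift_fst, lift_snd]
          · simp only [whiskerRight_snd, lift_snd]
        have e₂ : (α_ (G ⊗ P) (G ⊗ P) (G ⊗ P)).hom ≫ (G ⊗ P) ◁ m =
            lift (fst _ _ ≫ fst _ _) (lift (fst _ _ ≫ snd _ _) (snd _ _) ≫ m) := by
          apply CartesianMonoidalCategory.hom_ext
          · rw [Category.assoc, whiskerLeft_fst, lift_fst, associator_hom_fst]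
          · rw [Category.assoc, whiskerLeft_snd, lift_snd, ← Category.assoc]
            congr 1
            apply CartesianMonoidalCategory.hom_ext <;>
              simp only [Category.assoc, associator_hom_snd_fst, associator_hom_snd_snd, lift_fst, lift_snd]
        rw [e₁, ← Category.assoc (α_ (G ⊗ P) (G ⊗ P) (G ⊗ P)).hom, e₂]
        exact ext inferInstance _ _ (by rw [hmul₂, hmul₂, hmul₂, hmul₂, _root_.mul_assoc])
          (by rw [hmul, hmul, hmul, hmul, _root_.mul_assoc])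
      inv := i
      left_inv := ext hsm _ _ (by rw [hmul₂, hi₂, hone₂, Category.id_comp, _root_.inv_mul_cancel])
        (by rw [hmul, hi, hone, _root_.inv_mul_cancel])
      right_inv := ext hsm _ _ (by rw [hmul₂, hi₂, hone₂, Category.id_comp, _root_.mul_inv_cancel])
        (by rw [hmul, hi, hone, _root_.mul_inv_cancel]) }
  letI instM : MonObj (G ⊗ P) := instE.toMonObj
  have hMul : ∀ {T : Over S} (a b : T ⟶ G ⊗ P), a * b = lift a b ≫ m := fun a b => rfl
  have hOne : ∀ {T : Over S}, (1 : T ⟶ G ⊗ P) = toUnit T ≫ o := fun {T} => rfl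
  let u : G ⟶ G ⊗ P := lift (𝟙 G) 1
  let v : G ⊗ P ⟶ P := snd G P
  have hpu : p u = u' := by
    simp only [p]
    rw [gluePt_eq, lift_fst, lift_snd, Functor.map_one, CategoryTheory.Functor.map_id, Category.id_comp]
    rw [show (1 : (F).obj G ⟶ (F).obj P) ≫ σ = 1 by
      rw [Hom.one_def, Category.assoc, hσ1, ← Hom.one_def], _root_.mul_one]
  have huv : u ≫ v = 1 := lift_snd _ _
  haveI hu : IsMonHom u := by
    refine ⟨?_, ?_⟩
    · have h1 : η[G] = (1 : 𝟙_ (Over S) ⟶ G) := by rw [Hom.one_def, toUnit_unit, Category.id_comp]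
      show η[G] ≫ u = o
      refine ext inferInstance _ _ ?_ ?_
      · rw [Category.assoc, ho₂]
        show η[G] ≫ (lift (𝟙 G) 1 ≫ snd G P) = 1
        rw [lift_snd, MonObj.comp_one]
      · rw [ho]
        show gluePt u' σ (η[G] ≫ u) = 1
        rw [gluePt_comp]
        show (F).map η[G] ≫ p u = 1
        rw [hpu, h1, Functor.map_one, MonObj.one_comp]
    · haveI := smooth_tensor G G
      have h1 : μ[G] = fst G G * snd G G := by rw [Hom.mul_def, lift_fst_snd, Category.id_comp]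
      have h2 : u ⊗ₘ u = lift (fst G G ≫ u) (snd G G ≫ u) := by
        apply CartesianMonoidalCategory.hom_ext <;> simp
      show μ[G] ≫ u = (u ⊗ₘ u) ≫ m
      rw [h2]
      refine ext inferInstance _ _ ?_ ?_
      · rw [hmul₂, Category.assoc, Category.assoc, Category.assoc]
        show μ[G] ≫ (lift (𝟙 G) 1 ≫ snd G P) = (fst G G ≫ u ≫ v) * (snd G G ≫ u ≫ v)
        rw [huv, MonObj.comp_one, MonObj.comp_one, MonObj.comp_one, _root_.mul_one]
      · rw [hmul]
        show gluePt u' σ (μ[G] ≫ u) = gluePt u' σ (fst G G ≫ u) * gluePt u' σ (snd G G ≫ u)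
        rw [gluePt_comp, gluePt_comp, gluePt_comp]
        show (F).map μ[G] ≫ p u = ((F).map _ ≫ p u) * ((F).map _ ≫ p u)
        rw [hpu, h1, Functor.map_mul, MonObj.mul_comp]
  haveI hv : IsMonHom v := by
    refine ⟨?_, ?_⟩
    · show o ≫ snd G P = η[P]
      rw [ho₂, Hom.one_def, toUnit_unit, Category.id_comp]
    · show m ≫ snd G P = (v ⊗ₘ v) ≫ μ[P]
      rw [hm₂, Hom.mul_def]
      congr 1
  -- translations
  haveI := smooth_tensor G (G ⊗ P)
  let a₀ : G ⊗ (G ⊗ P) ⟶ G ⊗ P := lift (fst _ _) (snd _ _ ≫ snd G P)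
  let b₀ : G ⊗ (G ⊗ P) ⟶ G ⊗ P := snd _ _
  obtain ⟨d', hd', -⟩ := exists_translate hex' (p a₀) (p b₀) (by
    rw [hpv, hpv]; simp [a₀, b₀])
  obtain ⟨d, hd⟩ := (hbij _ inferInstance).2 d'
  replace hd : (F).map d = d' := hd
  have hd₀ : a₀ * (d ≫ u) = b₀ := by
    refine ext inferInstance _ _ ?_ ?_
    · rw [hMul, hmul₂]
      show (a₀ ≫ snd G P) * ((d ≫ u) ≫ v) = b₀ ≫ snd G P
      rw [Category.assoc d u v, huv, MonObj.comp_one, _root_.mul_one]
      simp [a₀, b₀]
    · rw [hMul, hmul]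
      show p a₀ * gluePt u' σ (d ≫ u) = p b₀
      rw [gluePt_comp]
      show p a₀ * ((F).map d ≫ p u) = p b₀
      rw [hpu, hd]
      exact hd'
  have hw : fst (G ⊗ P) G ≫ v = (((G ⊗ P) ◁ u) ≫ μ[G ⊗ P]) ≫ v := by
    have e : (G ⊗ P) ◁ u = lift (fst _ _) (snd _ _ ≫ u) := by
      apply CartesianMonoidalCategory.hom_ext <;> simp only [whiskerLeft_fst, whiskerLeft_snd, lift_fst, lift_snd]
    rw [e]
    show fst (G ⊗ P) G ≫ v = (lift (fst _ _) (snd _ _ ≫ u) ≫ m) ≫ snd G P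
    rw [hmul₂]
    show fst (G ⊗ P) G ≫ v = (fst _ _ ≫ v) * ((snd _ _ ≫ u) ≫ v)
    rw [Category.assoc, huv, MonObj.comp_one, _root_.mul_one]
  have hex : ∀ {T : Over S} (a b : T ⟶ G ⊗ P), a ≫ v = b ≫ v → ∃ g : T ⟶ G, a * (g ≫ u) = b := fun {T} a b hab => by
    let s : T ⟶ G ⊗ (G ⊗ P) := lift (a ≫ fst G P) b
    have ha : s ≫ a₀ = a := by
      apply CartesianMonoidalCategory.hom_ext
      · simp [s, a₀]
      · simpa [s, a₀] using hab.symm
    have hb : s ≫ b₀ = b := lift_snd _ _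
    refine ⟨s ≫ d, ?_⟩
    rw [Category.assoc, ← hb, ← ha, ← MonObj.comp_mul, hd₀]
  have key : ∀ {T : Over S} (a : T ⟶ G ⊗ P) (g : T ⟶ G),
      lift a g ≫ ((G ⊗ P) ◁ u) ≫ μ[G ⊗ P] = a * (g ≫ u) := fun a g => by
    rw [lift_whiskerLeft_assoc]
    rfl
  have hpb : IsPullback (fst (G ⊗ P) G) (((G ⊗ P) ◁ u) ≫ μ[G ⊗ P]) v v := by
    refine ⟨⟨hw⟩, ⟨PullbackCone.IsLimit.mk _
      (fun c => lift c.fst (hex c.fst c.snd c.condition).choose) (fun c => lift_fst _ _)
      (fun c => ?_) (fun c l hl₁ hl₂ => ?_)⟩⟩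
    · rw [key]; exact (hex c.fst c.snd c.condition).choose_spec
    · have hl : l = lift c.fst (l ≫ snd _ _) :=
        CartesianMonoidalCategory.hom_ext _ _ (by rw [lift_fst, hl₁]) (by rw [lift_snd])
      rw [hl, key] at hl₂
      rw [hl]
      congr 1
      have h3 := congrArg (fun q => q ≫ fst G P)
        (mul_left_cancel (hl₂.trans (hex c.fst c.snd c.condition).choose_spec.symm))
      simpa [u] using h3
  have htriv : NonAbH1.IsLocallyTrivialFor Scheme.fppfPrecoverage (Over.mk v.left : Over P.left) := by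
    refine ⟨Presieve.singleton (𝟙 P.left), Scheme.Hom.singleton_mem_fppfPrecoverage _, ?_⟩
    rintro W k ⟨⟩
    exact ⟨(lift (1 : P ⟶ G) (𝟙 P)).left, congrArg CommaMorphism.left (lift_snd (1 : P ⟶ G) (𝟙 P))⟩
  -- the comparison with `E'`
  obtain ⟨g', hg', -⟩ := exists_translate_left hex' (v' ≫ σ) (𝟙 E') (by
    rw [Category.assoc, hσ, Category.comp_id, Category.id_comp])
  let ψ : E' ⟶ (F).obj (G ⊗ P) := lift g' v' ≫ Functor.LaxMonoidal.μ (F) G P
  have hψ₁ : ψ ≫ (F).map (fst G P) = g' := by simp [ψ]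
  have hψ₂ : ψ ≫ (F).map (snd G P) = v' := by simp [ψ]
  have hψΦ : ψ ≫ gluePhi u' σ = 𝟙 E' := by
    rw [gluePhi, MonObj.comp_mul, reassoc_of% hψ₁, reassoc_of% hψ₂]
    exact hg'
  have hΦv : gluePhi u' σ ≫ v' = (F).map v := by
    have h := hpv (𝟙 (G ⊗ P))
    simp only [p, gluePt, CategoryTheory.Functor.map_id, Category.id_comp] at h
    exact h
  have hΦψ : gluePhi u' σ ≫ ψ = 𝟙 _ := by
    have h2 : (gluePhi u' σ ≫ ψ) ≫ (F).map (snd G P) = (F).map (snd G P) := by
      rw [Category.assoc, hψ₂, hΦv]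
    refine hom_ext_bc ?_ (by rw [h2, Category.id_comp])
    rw [Category.id_comp]
    refine hu'inj _ _ (mul_right_cancel (b := (F).map (snd G P) ≫ σ) ?_)
    have h3 : (gluePhi u' σ ≫ ψ) ≫ gluePhi u' σ = gluePhi u' σ := by
      rw [Category.assoc, hψΦ, Category.comp_id]
    conv at h3 => lhs; arg 2; rw [gluePhi]
    conv at h3 => rhs; rw [gluePhi]
    rw [MonObj.comp_mul, ← Category.assoc, ← Category.assoc (gluePhi u' σ ≫ ψ) ((F).map (snd G P)) σ, h2] at h3
    exact h3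
  let φ : Red.bc (S.fromSpecResidueField ξ) (G ⊗ P) ≅ E' := ⟨gluePhi u' σ, ψ, hΦψ, hψΦ⟩
  haveI : IsMonHom φ.hom := by
    have hp1 : ∀ {T : Over S} (a : T ⟶ G ⊗ P), (F).map a ≫ gluePhi u' σ = p a := fun a => rfl
    refine ⟨?_, ?_⟩
    · show (Functor.LaxMonoidal.ε (F) ≫ (F).map o) ≫ gluePhi u' σ = η[E']
      rw [Category.assoc, hp1, ho, MonObj.comp_one, Hom.one_def, toUnit_unit, Category.id_comp]
    · show (Functor.LaxMonoidal.μ (F) (G ⊗ P) (G ⊗ P) ≫ (F).map m) ≫ gluePhi u' σ =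
        (gluePhi u' σ ⊗ₘ gluePhi u' σ) ≫ μ[E']
      rw [Category.assoc, hp1, hm, MonObj.comp_mul, Hom.mul_def]
      congr 1
      apply CartesianMonoidalCategory.hom_ext <;> simp [p, gluePt]
  exact ⟨G ⊗ P, instE, u, v, φ, ⟨hu, hv, huv, hpb, htriv⟩, inferInstance, hpu, hΦv⟩

end Groth.Agent.ExtConst67
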